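import Mathlib.LinearAlgebra.Dual.Lemmas
import Mathlib.LinearAlgebra.Matrix.ToLin
import Mathlib.LinearAlgebra.Matrix.ToLinearEquiv
import Mathlib.LinearAlgebra.Eigenspace.Triangularizable
import Mathlib.LinearAlgebra.FiniteDimensional.Lemmas
import Mathlib.Algebra.Polynomial.Roots
import Mathlib.FieldTheory.IsAlgClosed.Basic
import Mathlib.LinearAlgebra.Matrix.Polynomial
import Mathlib.Tactic
import Groth.Prelude.Def_W4c2quivmodsheafKron

/-!
# Semistable and stable Kronecker modules
-/

namespace Groth.Agent.KronLib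

universe u v w

open Module

variable {K : Type u} [Field K] {V : Type v} {W : Type w}
  [AddCommGroup V] [Module K V] [FiniteDimensional K V]
  [AddCommGroup W] [Module K W] [FiniteDimensional K W] {n : ℕ}

variable (f : Fin n → (V →ₗ[K] W))

/-- The sum of the images of `V'`. -/
def img (V' : Submodule K V) : Submodule K W := ⨆ j, V'.map (f j)

/-- The total map `(Fin n → V) → W`. -/
def tot : (Fin n → V) →ₗ[K] W := ∑ j, (f j).comp (LinearMap.proj j)

omit [FiniteDimensional K V] [FiniteDimensional K W] in
theorem tot_apply (v : Fin n → V) : tot f v = ∑ j, f j (v j) := by simp [tot]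

omit [FiniteDimensional K V] [FiniteDimensional K W] in
theorem isSubrep_iff (V' : Submodule K V) (W' : Submodule K W) :
    KronMod.IsSubrep f V' W' ↔ img f V' ≤ W' := iSup_le_iff.symm

theorem finrank_img_le (V' : Submodule K V) : finrank K (img f V') ≤ n * finrank K V' := by
  let φ : (Fin n → V') →ₗ[K] W := (tot f).comp (LinearMap.pi fun j => V'.subtype.comp (LinearMap.proj j))
  have h : img f V' ≤ LinearMap.range φ := by
    refine iSup_le fun j => ?_
    rintro _ ⟨x, hx, rfl⟩
    refine ⟨Pi.single j ⟨x, hx⟩, ?_⟩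
    simp only [φ, LinearMap.comp_apply, tot_apply, LinearMap.pi_apply, LinearMap.proj_apply]
    rw [Finset.sum_eq_single j] <;> simp +contextual
  refine (Submodule.finrank_mono h).trans ((LinearMap.finrank_range_le φ).trans_eq ?_)
  simp [finrank_pi_fintype]

theorem ss_iff : KronMod.IsSemistable f ↔ 0 < finrank K V + finrank K W ∧
    ∀ V' : Submodule K V, finrank K W * finrank K V' ≤ finrank K V * finrank K (img f V') := by
  refine and_congr_right fun _ => ⟨fun h V' => ?_, fun h V' W' hs _ _ => ?_⟩
  · by_cases h1 : V' = ⊥ ∧ img f V' = ⊥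
    · rw [h1.1, finrank_bot, mul_zero]; exact Nat.zero_le _
    by_cases h2 : V' = ⊤ ∧ img f V' = ⊤
    · rw [h2.2, h2.1, finrank_top, finrank_top, mul_comm]
    exact h V' _ ((isSubrep_iff f _ _).2 le_rfl) h1 h2
  · exact (h V').trans (Nat.mul_le_mul_left _ (Submodule.finrank_mono ((isSubrep_iff f _ _).1 hs)))

theorem img_ker_pi : img f (LinearMap.ker (LinearMap.pi f)) = ⊥ := by
  rw [eq_bot_iff]
  refine iSup_le fun j => ?_
  rintro _ ⟨x, hx, rfl⟩
  have := congrFun (LinearMap.mem_ker.1 hx) j
  simpa using this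

theorem pi_injective (hW : 0 < finrank K W) (hf : KronMod.IsSemistable f) :
    Function.Injective (LinearMap.pi f) := by
  rw [← LinearMap.ker_eq_bot]
  have := ((ss_iff f).1 hf).2 (LinearMap.ker (LinearMap.pi f))
  rw [img_ker_pi, finrank_bot, mul_zero, Nat.le_zero, mul_eq_zero] at this
  exact Submodule.finrank_eq_zero.1 (this.resolve_left hW.ne')

omit [FiniteDimensional K V] [FiniteDimensional K W] in
theorem img_top : img f ⊤ = LinearMap.range (tot f) := by
  refine le_antisymm (iSup_le fun j => ?_) ?_
  · rintro _ ⟨x, -, rfl⟩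
    refine ⟨Pi.single j x, ?_⟩
    rw [tot_apply, Finset.sum_eq_single j] <;> simp +contextual
  · rintro _ ⟨v, rfl⟩
    rw [tot_apply]
    exact Submodule.sum_mem _ fun j _ => Submodule.mem_iSup_of_mem j ⟨v j, Submodule.mem_top, rfl⟩

theorem tot_surjective (hV : 0 < finrank K V) (hf : KronMod.IsSemistable f) :
    Function.Surjective (tot f) := by
  have := ((ss_iff f).1 hf).2 ⊤
  rw [img_top, finrank_top, mul_comm] at this
  rw [← LinearMap.range_eq_top]
  exact Submodule.eq_top_of_finrank_eq (le_antisymm (Submodule.finrank_le _) (Nat.le_of_mul_le_mul_left this hV))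

theorem not_ss_out_of_range (hV : 0 < finrank K V) (hW : 0 < finrank K W)
    (h : n * finrank K V < finrank K W ∨ n * finrank K W < finrank K V) :
    ¬ KronMod.IsSemistable f := fun hf => by
  rcases h with h | h
  · have := LinearMap.finrank_range_le (tot f)
    rw [LinearMap.range_eq_top.2 (tot_surjective f hV hf), finrank_top] at this
    simp [finrank_pi_fintype] at this
    omega
  · have := LinearMap.finrank_le_finrank_of_injective (pi_injective f hW hf)
    simp [finrank_pi_fintype] at this
    omega

theorem ss_iff_tot_bijective (hV : 0 < finrank K V) (hW : finrank K W = n * finrank K V) :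
    KronMod.IsSemistable f ↔ Function.Bijective (tot f) := by
  have hd : finrank K (Fin n → V) = finrank K W := by simp [finrank_pi_fintype, hW]
  refine ⟨fun hf => ⟨(LinearMap.injective_iff_surjective_of_finrank_eq_finrank hd).2 (tot_surjective f hV hf),
    tot_surjective f hV hf⟩, fun hb => (ss_iff f).2 ⟨by omega, fun V' => ?_⟩⟩
  let φ : (Fin n → V') →ₗ[K] img f V' := LinearMap.codRestrict _
    ((tot f).comp (LinearMap.pi fun j => V'.subtype.comp (LinearMap.proj j))) fun c => by
      simp only [LinearMap.comp_apply, tot_apply, LinearMap.pi_apply, LinearMap.proj_apply]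
      exact Submodule.sum_mem _ fun j _ => Submodule.mem_iSup_of_mem j ⟨(c j).1, (c j).2, rfl⟩
  have hφ : Function.Injective φ := fun c c' hc => by
    have h1 : tot f (fun j => (c j : V)) = tot f (fun j => (c' j : V)) := congrArg Subtype.val hc
    exact funext fun j => Subtype.ext (congrFun (hb.1 h1) j)
  have := LinearMap.finrank_le_finrank_of_injective hφ
  simp only [finrank_pi_fintype, Finset.sum_const, Finset.card_univ, Fintype.card_fin, smul_eq_mul] at this
  calc finrank K W * finrank K V' = finrank K V * (n * finrank K V') := by rw [hW]; ring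
    _ ≤ _ := Nat.mul_le_mul_left _ this

theorem ss_iff_pi_bijective (hW : 0 < finrank K W) (hV : finrank K V = n * finrank K W) :
    KronMod.IsSemistable f ↔ Function.Bijective (LinearMap.pi f) := by
  have hd : finrank K V = finrank K (Fin n → W) := by simp [finrank_pi_fintype, hV]
  refine ⟨fun hf => ⟨pi_injective f hW hf,
    (LinearMap.injective_iff_surjective_of_finrank_eq_finrank hd).1 (pi_injective f hW hf)⟩,
    fun hb => (ss_iff f).2 ⟨by omega, fun V' => ?_⟩⟩
  let φ : V' →ₗ[K] (Fin n → img f V') := LinearMap.pi fun j => LinearMap.codRestrict _ ((f j).comp V'.subtype)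
    fun c => Submodule.mem_iSup_of_mem j ⟨c.1, c.2, rfl⟩
  have hφ : Function.Injective φ := fun c c' hc => Subtype.ext (hb.1 (funext fun j => by
    have := congrArg Subtype.val (congrFun hc j)
    exact this))
  have := LinearMap.finrank_le_finrank_of_injective hφ
  simp only [finrank_pi_fintype, Finset.sum_const, Finset.card_univ, Fintype.card_fin, smul_eq_mul] at this
  calc finrank K W * finrank K V' ≤ finrank K W * (n * finrank K (img f V')) := Nat.mul_le_mul_left _ this
    _ = _ := by rw [hV]; ring

theorem exists_tot (hV : 0 < finrank K V) (hW : finrank K W = n * finrank K V) :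
    (∃ f : Fin n → (V →ₗ[K] W), KronMod.IsSemistable f) ∧
    ∀ f f' : Fin n → (V →ₗ[K] W), KronMod.IsSemistable f → KronMod.IsSemistable f' →
      KronMod.AreIso f f' := by
  classical
  let e : (Fin n → V) ≃ₗ[K] W := LinearEquiv.ofFinrankEq _ _ (by simp [finrank_pi_fintype, hW])
  refine ⟨⟨fun j => e.toLinearMap.comp (LinearMap.single K (fun _ => V) j), ?_⟩, fun f f' hf hf' => ?_⟩
  · rw [ss_iff_tot_bijective _ hV hW]
    have : tot (fun j => e.toLinearMap.comp (LinearMap.single K (fun _ : Fin n => V) j)) = e.toLinearMap := by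
      ext v
      simp only [tot, LinearMap.coe_comp, Function.comp_apply, LinearMap.sum_apply, LinearMap.proj_apply]
      rw [← map_sum]
      congr 1
      funext i
      simp [Finset.sum_apply, Pi.single_apply]
    rw [this]; exact e.bijective
  · let a := LinearEquiv.ofBijective (tot f) ((ss_iff_tot_bijective f hV hW).1 hf)
    let b := LinearEquiv.ofBijective (tot f') ((ss_iff_tot_bijective f' hV hW).1 hf')
    refine ⟨LinearEquiv.refl K V, a.symm.trans b, fun j => LinearMap.ext fun x => ?_⟩
    have ha : a (Pi.single j x) = f j x := by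
      show tot f _ = _
      rw [tot_apply, Finset.sum_eq_single j] <;> simp +contextual
    have hb : b (Pi.single j x) = f' j x := by
      show tot f' _ = _
      rw [tot_apply, Finset.sum_eq_single j] <;> simp +contextual
    simp [← ha, ← hb]

theorem exists_pi (hW : 0 < finrank K W) (hV : finrank K V = n * finrank K W) :
    (∃ f : Fin n → (V →ₗ[K] W), KronMod.IsSemistable f) ∧
    ∀ f f' : Fin n → (V →ₗ[K] W), KronMod.IsSemistable f → KronMod.IsSemistable f' →
      KronMod.AreIso f f' := by
  let e : V ≃ₗ[K] (Fin n → W) := LinearEquiv.ofFinrankEq _ _ (by simp [finrank_pi_fintype, hV])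
  refine ⟨⟨fun j => (LinearMap.proj j).comp e.toLinearMap, ?_⟩, fun f f' hf hf' => ?_⟩
  · rw [ss_iff_pi_bijective _ hW hV]
    have : LinearMap.pi (fun j => (LinearMap.proj j).comp e.toLinearMap) = e.toLinearMap := by ext; rfl
    rw [this]; exact e.bijective
  · let a := LinearEquiv.ofBijective (LinearMap.pi f) ((ss_iff_pi_bijective f hW hV).1 hf)
    let b := LinearEquiv.ofBijective (LinearMap.pi f') ((ss_iff_pi_bijective f' hW hV).1 hf')
    refine ⟨a.trans b.symm, LinearEquiv.refl K W, fun j => LinearMap.ext fun x => ?_⟩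
    exact (congrFun (b.apply_symm_apply (a x)) j).symm

omit [FiniteDimensional K W] in
theorem ss_of_stable (h : KronMod.IsStable f) : KronMod.IsSemistable f :=
  ⟨h.1, fun V' W' a b c => (h.2 V' W' a b c).le⟩

theorem stable_tot (hV : 0 < finrank K V) (hW : finrank K W = n * finrank K V) :
    KronMod.IsStable f ↔ KronMod.IsSemistable f ∧ finrank K V = 1 := by
  constructor
  · refine fun h => ⟨ss_of_stable f h, ?_⟩
    by_contra h1
    obtain ⟨x0, hx0⟩ := Module.finrank_pos_iff_exists_ne_zero.1 hV
    let L : Submodule K V := Submodule.span K {x0}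
    have hL : finrank K L = 1 := finrank_span_singleton hx0
    have hlt := h.2 L (img f L) ((isSubrep_iff f _ _).2 le_rfl)
      (fun hh => by rw [hh.1, finrank_bot] at hL; omega) (fun hh => by rw [hh.1, finrank_top] at hL; omega)
    have := finrank_img_le f L
    rw [hL, mul_one] at hlt this
    rw [hW, mul_comm] at hlt
    have := Nat.lt_of_mul_lt_mul_left hlt
    omega
  · rintro ⟨hf, h1⟩
    refine ⟨by omega, fun V' W' hs hbot htop => ?_⟩
    have hle := Submodule.finrank_le V'
    rcases Nat.eq_zero_or_pos (finrank K V') with h0 | h0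
    · rw [h0, mul_zero, h1, one_mul]
      exact Nat.pos_of_ne_zero fun hz => hbot ⟨Submodule.finrank_eq_zero.1 h0, Submodule.finrank_eq_zero.1 hz⟩
    · have hV' : V' = ⊤ := Submodule.eq_top_of_finrank_eq (by omega)
      refine absurd ⟨hV', eq_top_iff.2 ?_⟩ htop
      rw [isSubrep_iff, hV', img_top, LinearMap.range_eq_top.2 (tot_surjective f hV hf)] at hs
      exact hs

theorem stable_pi (hW : 0 < finrank K W) (hV : finrank K V = n * finrank K W) :
    KronMod.IsStable f ↔ KronMod.IsSemistable f ∧ finrank K W = 1 := by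
  constructor
  · refine fun h => ⟨ss_of_stable f h, ?_⟩
    by_contra h1
    obtain ⟨x0, hx0⟩ := Module.finrank_pos_iff_exists_ne_zero.1 hW
    let L : Submodule K W := Submodule.span K {x0}
    have hL : finrank K L = 1 := finrank_span_singleton hx0
    let a := LinearEquiv.ofBijective (LinearMap.pi f) ((ss_iff_pi_bijective f hW hV).1 (ss_of_stable f h))
    let M : Submodule K (Fin n → W) := Submodule.pi Set.univ fun _ => L
    let V' : Submodule K V := M.comap a.toLinearMap
    have hs : KronMod.IsSubrep f V' L := by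
      rintro j _ ⟨x, hx, rfl⟩
      exact hx j trivial
    have hlt := h.2 V' L hs (fun hh => by rw [hh.2, finrank_bot] at hL; omega)
      (fun hh => by rw [hh.2, finrank_top] at hL; omega)
    have hge : n ≤ finrank K V' := by
      let ψ : (Fin n → L) →ₗ[K] V' := LinearMap.codRestrict _
        (a.symm.toLinearMap.comp (LinearMap.pi fun j => L.subtype.comp (LinearMap.proj j)))
        fun c => fun j _ => by
          have : a (a.symm (fun j => (c j : W))) j = (c j : W) := by rw [a.apply_symm_apply]
          show a (a.symm (fun j => (c j : W))) j ∈ L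
          rw [this]; exact (c j).2
      have hψ : Function.Injective ψ := fun c c' hc => funext fun j => Subtype.ext
        (congrFun (a.symm.injective (congrArg Subtype.val hc)) j)
      simpa [finrank_pi_fintype, hL] using LinearMap.finrank_le_finrank_of_injective hψ
    rw [hL, mul_one, hV] at hlt
    have := Nat.mul_le_mul_left (finrank K W) hge
    rw [mul_comm n] at hlt
    omega
  · rintro ⟨hf, h1⟩
    refine ⟨by omega, fun V' W' hs hbot htop => ?_⟩
    have hle := Submodule.finrank_le W'
    rcases Nat.eq_zero_or_pos (finrank K W') with h0 | h0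
    · exfalso
      have hW' := Submodule.finrank_eq_zero.1 h0
      refine hbot ⟨?_, hW'⟩
      rw [isSubrep_iff, hW', le_bot_iff] at hs
      have := ((ss_iff f).1 hf).2 V'
      rw [hs, finrank_bot, mul_zero, h1, one_mul, Nat.le_zero] at this
      exact Submodule.finrank_eq_zero.1 this
    · have hW' : W' = ⊤ := Submodule.eq_top_of_finrank_eq (by omega)
      rw [show finrank K W' = 1 by rw [hW', finrank_top, h1], h1, one_mul, mul_one]
      exact Submodule.finrank_lt fun hV' => htop ⟨hV', hW'⟩

theorem dim_one (hV : finrank K V = 1) (hW : finrank K W = 1) :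
    (KronMod.IsSemistable f ↔ f ≠ 0) ∧ (KronMod.IsStable f ↔ f ≠ 0) := by
  have key : f ≠ 0 → KronMod.IsStable f := fun hf => by
    refine ⟨by omega, fun V' W' hs hbot htop => ?_⟩
    rw [hV, hW, one_mul, one_mul]
    have h1 := Submodule.finrank_le V'
    have h2 := Submodule.finrank_le W'
    rcases Nat.eq_zero_or_pos (finrank K V') with h0 | h0
    · rw [h0]
      exact Nat.pos_of_ne_zero fun hz => hbot ⟨Submodule.finrank_eq_zero.1 h0, Submodule.finrank_eq_zero.1 hz⟩
    · have hV' : V' = ⊤ := Submodule.eq_top_of_finrank_eq (by omega)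
      rcases Nat.eq_zero_or_pos (finrank K W') with hz | hz
      · refine absurd (funext fun j => LinearMap.ext fun x => ?_) hf
        have := hs j ⟨x, hV' ▸ Submodule.mem_top, rfl⟩
        rwa [Submodule.finrank_eq_zero.1 hz, Submodule.mem_bot] at this
      · exact absurd ⟨hV', Submodule.eq_top_of_finrank_eq (by omega)⟩ htop
  have back : KronMod.IsSemistable f → f ≠ 0 := fun h h0 => by
    have := ((ss_iff f).1 h).2 ⊤
    rw [show img f ⊤ = ⊥ by
      rw [eq_bot_iff]; refine iSup_le fun j => ?_; rintro _ ⟨x, -, rfl⟩; simp [h0],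
      finrank_bot, finrank_top, hV, hW] at this
    omega
  exact ⟨⟨back, fun h => ss_of_stable f (key h)⟩, ⟨fun h => back (ss_of_stable f h), key⟩⟩

theorem ss_of_bijective_comb {k : ℕ} (hk : 1 ≤ k) (hV : finrank K V = k) (hW : finrank K W = k)
    (z : Fin n → K) (hz : Function.Bijective ((∑ j, z j • f j : V →ₗ[K] W) : V → W)) :
    KronMod.IsSemistable f := by
  refine (ss_iff f).2 ⟨by omega, fun V' => ?_⟩
  rw [hV, hW]
  refine Nat.mul_le_mul_left _ ?_
  let φ : V' →ₗ[K] img f V' := LinearMap.codRestrict _ ((∑ j, z j • f j).comp V'.subtype) fun c => by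
    simp only [LinearMap.comp_apply, LinearMap.sum_apply, LinearMap.smul_apply]
    exact Submodule.sum_mem _ fun j _ => Submodule.smul_mem _ _ (Submodule.mem_iSup_of_mem j ⟨c.1, c.2, rfl⟩)
  exact LinearMap.finrank_le_finrank_of_injective (f := φ) fun c c' hc =>
    Subtype.ext (hz.1 (congrArg Subtype.val hc))

theorem subrep_dual {V' : Submodule K V} {W' : Submodule K W} (h : KronMod.IsSubrep f V' W') :
    KronMod.IsSubrep (fun j => (f j).dualMap) W'.dualAnnihilator V'.dualAnnihilator := by
  rintro j _ ⟨φ, hφ, rfl⟩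
  rw [Submodule.mem_dualAnnihilator]
  intro x hx
  exact (Submodule.mem_dualAnnihilator φ).1 hφ _ (h j ⟨x, hx, rfl⟩)

theorem subrep_codual {A : Submodule K (Dual K W)} {B : Submodule K (Dual K V)}
    (h : KronMod.IsSubrep (fun j => (f j).dualMap) A B) :
    KronMod.IsSubrep f B.dualCoannihilator A.dualCoannihilator := by
  rintro j _ ⟨x, hx, rfl⟩
  rw [Submodule.mem_dualCoannihilator]
  intro φ hφ
  exact (Submodule.mem_dualCoannihilator x).1 hx _ (h j ⟨φ, hφ, rfl⟩)

theorem dual_weight {a b p q : ℕ} (hp : p ≤ a) (hq : q ≤ b) :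
    (a * (b - q) ≤ b * (a - p) ↔ b * p ≤ a * q) ∧ (a * (b - q) < b * (a - p) ↔ b * p < a * q) := by
  obtain ⟨p', rfl⟩ := Nat.exists_eq_add_of_le hp
  obtain ⟨q', rfl⟩ := Nat.exists_eq_add_of_le hq
  simp only [Nat.add_sub_cancel_left]
  constructor <;> constructor <;> intro h <;> linarith

theorem ss_dual :
    (KronMod.IsSemistable f ↔ KronMod.IsSemistable (fun j => (f j).dualMap)) ∧
    (KronMod.IsStable f ↔ KronMod.IsStable (fun j => (f j).dualMap)) := by
  have hann : ∀ V' : Submodule K V, finrank K V'.dualAnnihilator = finrank K V - finrank K V' := fun V' => by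
    have := Subspace.finrank_add_finrank_dualAnnihilator_eq V'; omega
  have hannW : ∀ W' : Submodule K W, finrank K W'.dualAnnihilator = finrank K W - finrank K W' := fun W' => by
    have := Subspace.finrank_add_finrank_dualAnnihilator_eq W'; omega
  have hdd : finrank K (Dual K V) = finrank K V := Subspace.dual_finrank_eq
  have hdd' : finrank K (Dual K W) = finrank K W := Subspace.dual_finrank_eq
  have back : ∀ (V' : Submodule K V) (W' : Submodule K W), ¬(V' = ⊥ ∧ W' = ⊥) → ¬(V' = ⊤ ∧ W' = ⊤) →
      ¬(W'.dualAnnihilator = ⊥ ∧ V'.dualAnnihilator = ⊥) ∧ ¬(W'.dualAnnihilator = ⊤ ∧ V'.dualAnnihilator = ⊤) := by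
    intro V' W' hb ht
    constructor
    · intro h
      refine ht ⟨?_, ?_⟩
      · rw [← Subspace.dualAnnihilator_dualCoannihilator_eq (W := V'), h.2]; simp
      · rw [← Subspace.dualAnnihilator_dualCoannihilator_eq (W := W'), h.1]; simp
    · intro h
      refine hb ⟨?_, ?_⟩
      · rw [← Subspace.dualAnnihilator_dualCoannihilator_eq (W := V'), h.2]; simp
      · rw [← Subspace.dualAnnihilator_dualCoannihilator_eq (W := W'), h.1]; simp
  constructor <;> constructor <;> intro hf
  case left.mpr =>
    refine ⟨by rw [← hdd, ← hdd', add_comm]; exact hf.1, fun V' W' hs hb ht => ?_⟩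
    have := hf.2 _ _ (subrep_dual f hs) (back V' W' hb ht).1 (back V' W' hb ht).2
    rw [hdd, hdd', hann, hannW] at this
    exact (dual_weight (Submodule.finrank_le V') (Submodule.finrank_le W')).1.1 this
  case right.mpr =>
    refine ⟨by rw [← hdd, ← hdd', add_comm]; exact hf.1, fun V' W' hs hb ht => ?_⟩
    have := hf.2 _ _ (subrep_dual f hs) (back V' W' hb ht).1 (back V' W' hb ht).2
    rw [hdd, hdd', hann, hannW] at this
    exact (dual_weight (Submodule.finrank_le V') (Submodule.finrank_le W')).2.1 this
  case left.mp =>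
    refine ⟨by rw [hdd, hdd', add_comm]; exact hf.1, fun A B hs hb ht => ?_⟩
    obtain ⟨V', rfl⟩ : ∃ V' : Submodule K V, V'.dualAnnihilator = B := ⟨_, Subspace.dualCoannihilator_dualAnnihilator_eq⟩
    obtain ⟨W', rfl⟩ : ∃ W' : Submodule K W, W'.dualAnnihilator = A := ⟨_, Subspace.dualCoannihilator_dualAnnihilator_eq⟩
    have hs' := subrep_codual f hs
    rw [Subspace.dualAnnihilator_dualCoannihilator_eq, Subspace.dualAnnihilator_dualCoannihilator_eq] at hs'
    rw [hdd, hdd', hann, hannW]
    refine (dual_weight (Submodule.finrank_le V') (Submodule.finrank_le W')).1.2 (hf.2 V' W' hs' ?_ ?_)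
    · rintro ⟨rfl, rfl⟩; exact ht ⟨by simp, by simp⟩
    · rintro ⟨rfl, rfl⟩; exact hb ⟨by simp, by simp⟩
  case right.mp =>
    refine ⟨by rw [hdd, hdd', add_comm]; exact hf.1, fun A B hs hb ht => ?_⟩
    obtain ⟨V', rfl⟩ : ∃ V' : Submodule K V, V'.dualAnnihilator = B := ⟨_, Subspace.dualCoannihilator_dualAnnihilator_eq⟩
    obtain ⟨W', rfl⟩ : ∃ W' : Submodule K W, W'.dualAnnihilator = A := ⟨_, Subspace.dualCoannihilator_dualAnnihilator_eq⟩
    have hs' := subrep_codual f hs
    rw [Subspace.dualAnnihilator_dualCoannihilator_eq, Subspace.dualAnnihilator_dualCoannihilator_eq] at hs'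
    rw [hdd, hdd', hann, hannW]
    refine (dual_weight (Submodule.finrank_le V') (Submodule.finrank_le W')).2.2 (hf.2 V' W' hs' ?_ ?_)
    · rintro ⟨rfl, rfl⟩; exact ht ⟨by simp, by simp⟩
    · rintro ⟨rfl, rfl⟩; exact hb ⟨by simp, by simp⟩

theorem bijective_of_indep (hV : finrank K V = 2) (hW : finrank K W = 2) (u : V →ₗ[K] W) {x y : V}
    (h : LinearIndependent K ![u x, u y]) : Function.Bijective u := by
  have hs : Function.Surjective u := by
    rw [← LinearMap.range_eq_top, eq_top_iff, ← h.span_eq_top_of_card_eq_finrank (by simp [hW]), Submodule.span_le]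
    rintro _ ⟨i, rfl⟩
    fin_cases i
    · exact ⟨x, rfl⟩
    · exact ⟨y, rfl⟩
  exact ⟨(LinearMap.injective_iff_surjective_of_finrank_eq_finrank (by omega)).2 hs, hs⟩

theorem exists_bij_dim_two (hV : finrank K V = 2) (hW : finrank K W = 2) (hf : KronMod.IsSemistable f) :
    ∃ z : Fin n → K, Function.Bijective ((∑ j, z j • f j : V →ₗ[K] W) : V → W) := by
  classical
  suffices ∃ g ∈ Submodule.span K (Set.range f), Function.Bijective (g : V → W) by
    obtain ⟨g, hg, hb⟩ := this
    obtain ⟨z, rfl⟩ := (Submodule.mem_span_range_iff_exists_fun K).1 hg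
    exact ⟨z, hb⟩
  by_contra hc
  push Not at hc
  have hsing : ∀ g ∈ Submodule.span K (Set.range f), ∀ x y : V, g x ≠ 0 → g y ∈ Submodule.span K {g x} := by
    intro g hg x y hx
    by_contra hy
    refine hc g hg (bijective_of_indep hV hW g (x := x) (y := y) ?_)
    rw [LinearIndependent.pair_iff' hx]
    exact fun a ha => hy (Submodule.mem_span_singleton.2 ⟨a, ha⟩)
  have hmem : ∀ j, f j ∈ Submodule.span K (Set.range f) := fun j => Submodule.subset_span ⟨j, rfl⟩
  have hpi := pi_injective f (by omega) hf
  obtain ⟨v0, hv0⟩ : ∃ v : V, v ≠ 0 := by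
    haveI := Module.nontrivial_of_finrank_pos (R := K) (show 0 < finrank K V by omega)
    exact exists_ne 0
  obtain ⟨i, hi⟩ : ∃ i, f i v0 ≠ 0 := by
    by_contra h; push Not at h
    exact hv0 (hpi (funext fun j => by simpa using h j))
  obtain ⟨v, hv, hvi⟩ : ∃ v : V, v ≠ 0 ∧ f i v = 0 := by
    by_contra h; push Not at h
    have : Function.Injective (f i) := by
      rw [injective_iff_map_eq_zero]; intro x hx; by_contra hx0; exact h x hx0 hx
    exact hc _ (hmem i) ⟨this, (LinearMap.injective_iff_surjective_of_finrank_eq_finrank (by omega)).1 this⟩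
  set w := f i v0 with hw
  have hbasis : ∀ x : V, ∃ a b : K, x = a • v + b • v0 := by
    have hind : LinearIndependent K ![v, v0] := by
      rw [LinearIndependent.pair_iff' hv]
      intro a ha; apply hi; rw [hw, ← ha, map_smul, hvi, smul_zero]
    intro x
    have : x ∈ Submodule.span K (Set.range ![v, v0]) := by
      rw [hind.span_eq_top_of_card_eq_finrank (by simp [hV])]; trivial
    obtain ⟨c, hcx⟩ := (Submodule.mem_span_range_iff_exists_fun K).1 this
    exact ⟨c 0, c 1, by rw [← hcx]; simp [Fin.sum_univ_two]⟩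
  -- every arrow sends `v` into the line of `w`
  have hline : ∀ j, f j v ∈ Submodule.span K {w} := by
    intro j
    by_contra hj
    have hne : f j v ≠ 0 := fun h0 => hj (h0 ▸ Submodule.zero_mem _)
    obtain ⟨c, hcj⟩ := Submodule.mem_span_singleton.1 (hsing _ (hmem j) v v0 hne)
    have h := hsing (f i + f j) (add_mem (hmem i) (hmem j)) v v0 (by simpa [hvi] using hne)
    simp only [LinearMap.add_apply, hvi, zero_add, ← hcj] at h
    have h2 : w ∈ Submodule.span K {f j v} := by
      have := Submodule.sub_mem _ h (Submodule.smul_mem _ c (Submodule.mem_span_singleton_self (f j v)))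
      simpa [hw] using this
    obtain ⟨a, ha⟩ := Submodule.mem_span_singleton.1 h2
    have ha0 : a ≠ 0 := fun h0 => hi (by rw [← ha, h0, zero_smul])
    exact hj (Submodule.mem_span_singleton.2 ⟨a⁻¹, by rw [← ha, inv_smul_smul₀ ha0]⟩)
  obtain ⟨c, hcout⟩ : ∃ c, f c v0 ∉ Submodule.span K {w} := by
    by_contra h; push Not at h
    have hle : img f ⊤ ≤ Submodule.span K {w} := iSup_le fun j => by
      rintro _ ⟨x, -, rfl⟩
      obtain ⟨a, b, rfl⟩ := hbasis x
      rw [map_add, map_smul, map_smul]
      exact add_mem (Submodule.smul_mem _ _ (hline j)) (Submodule.smul_mem _ _ (h j))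
    have := Submodule.finrank_mono hle
    rw [finrank_span_singleton hi] at this
    have h2 := ((ss_iff f).1 hf).2 ⊤
    rw [finrank_top, hV, hW] at h2
    omega
  obtain ⟨b, hb⟩ : ∃ b, f b v ≠ 0 := by
    by_contra h; push Not at h
    exact hv (hpi (funext fun j => by simpa using h j))
  have hcv : f c v = 0 := by
    by_contra h
    obtain ⟨a, ha⟩ := Submodule.mem_span_singleton.1 (hsing _ (hmem c) v v0 h)
    exact hcout (ha ▸ Submodule.smul_mem _ a (hline c))
  have hbv0 : f b v0 ∈ Submodule.span K {w} := by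
    obtain ⟨a, ha⟩ := Submodule.mem_span_singleton.1 (hsing _ (hmem b) v v0 hb)
    exact ha ▸ Submodule.smul_mem _ a (hline b)
  have h := hsing (f b + f c) (add_mem (hmem b) (hmem c)) v v0 (by simpa [hcv] using hb)
  obtain ⟨a, ha⟩ := Submodule.mem_span_singleton.1 h
  simp only [LinearMap.add_apply, hcv, add_zero] at ha
  refine hcout ?_
  have : f c v0 = a • f b v - f b v0 := by rw [ha]; abel
  rw [this]
  exact Submodule.sub_mem _ (Submodule.smul_mem _ _ (hline b)) hbv0

open Polynomial in
theorem exists_bij_pencil [Infinite K] (f : Fin 2 → (V →ₗ[K] W)) {k : ℕ}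
    (hV : finrank K V = k) (hW : finrank K W = k) (hf : KronMod.IsSemistable f) :
    ∃ z : Fin 2 → K, Function.Bijective ((∑ j, z j • f j : V →ₗ[K] W) : V → W) := by
  classical
  by_contra hc
  push Not at hc
  let bV := Module.finBasisOfFinrankEq K V hV
  let bW := Module.finBasisOfFinrankEq K W hW
  set M0 := LinearMap.toMatrix bV bW (f 0)
  set M1 := LinearMap.toMatrix bV bW (f 1)
  let P : Matrix (Fin k) (Fin k) K[X] := M0.map C + (X : K[X]) • M1.map C
  have hdet : P.det = 0 := by
    refine Polynomial.eq_zero_of_infinite_isRoot _ (Set.infinite_univ.mono fun t _ => ?_)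
    show IsRoot _ t
    rw [IsRoot, ← coe_evalRingHom, RingHom.map_det]
    by_contra hne
    refine hc ![1, t] ?_
    have hmat : LinearMap.toMatrix bV bW (∑ j, ![1, t] j • f j) = (Polynomial.evalRingHom t).mapMatrix P := by
      simp only [Fin.sum_univ_two, Matrix.cons_val_zero, Matrix.cons_val_one, one_smul, map_add, map_smul, P]
      ext a b
      simp [M0, M1, mul_comm t]
    have hinj : Function.Injective ((∑ j, ![1, t] j • f j : V →ₗ[K] W) : V → W) := by
      rw [injective_iff_map_eq_zero]
      intro x hx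
      have hmv := LinearMap.toMatrix_mulVec_repr bV bW (∑ j, ![1, t] j • f j) x
      rw [hx, map_zero, hmat] at hmv
      have := Matrix.eq_zero_of_mulVec_eq_zero hne hmv
      exact bV.repr.injective (by rw [map_zero]; exact DFunLike.coe_injective this)
    exact ⟨hinj, (LinearMap.injective_iff_surjective_of_finrank_eq_finrank (hV.trans hW.symm)).1 hinj⟩
  obtain ⟨p, hp, hPp⟩ := Matrix.exists_mulVec_eq_zero_iff.2 hdet
  let u : ℕ → V := fun i => bV.equivFun.symm fun a => (p a).coeff i
  have hfu : ∀ (g : V →ₗ[K] W) (i : ℕ) (a : Fin k),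
      bW.repr (g (u i)) a = ∑ b, LinearMap.toMatrix bV bW g a b * (p b).coeff i := by
    intro g i a
    have := congrFun (LinearMap.toMatrix_mulVec_repr bV bW g (u i)) a
    rw [← this]
    simp only [Matrix.mulVec, dotProduct]
    refine Finset.sum_congr rfl fun b _ => ?_
    congr 1
    exact congrFun (bV.equivFun.apply_symm_apply fun a => (p a).coeff i) b
  have hcoef : ∀ (i : ℕ) (a : Fin k),
      (∑ b, M0 a b * (p b).coeff i) + (if i = 0 then 0 else ∑ b, M1 a b * (p b).coeff (i - 1)) = 0 := by
    intro i a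
    have := congrArg (fun q => q.coeff i) (congrFun hPp a)
    simp only [P, Matrix.mulVec, dotProduct, Matrix.add_apply, Matrix.smul_apply, Matrix.map_apply,
      smul_eq_mul, finsetSum_coeff, Pi.zero_apply, coeff_zero, add_mul, coeff_add, coeff_C_mul,
      Finset.sum_add_distrib] at this
    rcases i with _ | i
    · simpa [mul_assoc] using this
    · simpa [mul_assoc, coeff_X_mul] using this
  have r0 : f 0 (u 0) = 0 := bW.repr.injective (Finsupp.ext fun a => by
    rw [hfu, map_zero, Finsupp.zero_apply]
    simpa using hcoef 0 a)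
  have r1 : ∀ i, f 1 (u i) = - f 0 (u (i + 1)) := fun i => bW.repr.injective (Finsupp.ext fun a => by
    rw [hfu, map_neg, Finsupp.neg_apply, hfu, eq_neg_iff_add_eq_zero, add_comm]
    simpa using hcoef (i + 1) a)
  let V' : Submodule K V := Submodule.span K (Set.range u)
  obtain ⟨m, hm, hm0⟩ : ∃ m, u m ≠ 0 ∧ f 0 (u m) = 0 := by
    have hex : ∃ m, u m ≠ 0 := by
      obtain ⟨a, ha⟩ := Function.ne_iff.1 hp
      refine ⟨(p a).natTrailingDegree, fun h => ?_⟩
      have := congrFun (congrArg bV.equivFun h) a
      rw [show u _ = bV.equivFun.symm _ from rfl, LinearEquiv.apply_symm_apply, map_zero] at this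
      exact (Polynomial.trailingCoeff_nonzero_iff_nonzero.2 ha) this
    refine ⟨Nat.find hex, Nat.find_spec hex, ?_⟩
    rcases h : Nat.find hex with _ | i
    · exact r0
    · have := r1 i
      rw [not_not.1 (Nat.find_min hex (show i < Nat.find hex by omega)), map_zero, eq_comm, neg_eq_zero] at this
      exact this
  have himg : img f V' ≤ V'.map (f 0) := by
    refine iSup_le fun j => ?_
    fin_cases j
    · exact le_rfl
    · rw [Submodule.map_le_iff_le_comap, Submodule.span_le]
      rintro _ ⟨i, rfl⟩
      exact ⟨-u (i + 1), Submodule.neg_mem _ (Submodule.subset_span ⟨i + 1, rfl⟩), by rw [map_neg]; exact (r1 i).symm⟩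
  have hss := ((ss_iff f).1 hf).2 V'
  rw [hV, hW] at hss
  have hk : 0 < k := by
    rw [← hV]
    exact Module.finrank_pos_iff_exists_ne_zero.2 ⟨u m, hm⟩
  have hle := (Nat.le_of_mul_le_mul_left hss hk).trans (Submodule.finrank_mono himg)
  have hrn := LinearMap.finrank_range_add_finrank_ker ((f 0).domRestrict V')
  rw [LinearMap.range_domRestrict] at hrn
  have : 0 < finrank K (LinearMap.ker ((f 0).domRestrict V')) :=
    Module.finrank_pos_iff_exists_ne_zero.2 ⟨⟨⟨u m, Submodule.subset_span ⟨m, rfl⟩⟩, hm0⟩,
      fun h => hm (by simpa [Subtype.ext_iff] using h)⟩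
  omega

theorem not_stable_pencil [IsAlgClosed K] (f : Fin 2 → (V →ₗ[K] W)) {k : ℕ} (hk : 2 ≤ k)
    (hV : finrank K V = k) (hW : finrank K W = k) : ¬ KronMod.IsStable f := by
  intro h
  obtain ⟨z, hz⟩ := exists_bij_pencil f hV hW (ss_of_stable f h)
  let g := LinearEquiv.ofBijective _ hz
  haveI : Nontrivial V := Module.nontrivial_of_finrank_pos (R := K) (show 0 < finrank K V by omega)
  have hg : ∀ x, g x = z 0 • f 0 x + z 1 • f 1 x := fun x => by
    show (∑ j, z j • f j) x = _
    simp [Fin.sum_univ_two]
  obtain ⟨v, hv, hmem⟩ : ∃ v : V, v ≠ 0 ∧ ∀ j, f j v ∈ Submodule.span K {g v} := by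
    by_cases h0 : z 0 = 0
    · obtain ⟨μ, hμ⟩ := Module.End.exists_eigenvalue (g.symm.toLinearMap.comp (f 0))
      obtain ⟨v, hv⟩ := hμ.exists_hasEigenvector
      have h1 : f 0 v = μ • g v := by
        have := congrArg g (Module.End.mem_eigenspace_iff.1 hv.1)
        simpa using this
      refine ⟨v, hv.2, fun j => ?_⟩
      fin_cases j
      · exact Submodule.mem_span_singleton.2 ⟨μ, h1.symm⟩
      · have hz1 : z 1 ≠ 0 := fun h1' => hv.2 (g.injective (by rw [hg, map_zero, h0, h1', zero_smul, zero_smul, add_zero]))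
        exact Submodule.mem_span_singleton.2 ⟨(z 1)⁻¹, by rw [hg, h0, zero_smul, zero_add, inv_smul_smul₀ hz1]; rfl⟩
    · obtain ⟨μ, hμ⟩ := Module.End.exists_eigenvalue (g.symm.toLinearMap.comp (f 1))
      obtain ⟨v, hv⟩ := hμ.exists_hasEigenvector
      have h1 : f 1 v = μ • g v := by
        have := congrArg g (Module.End.mem_eigenspace_iff.1 hv.1)
        simpa using this
      refine ⟨v, hv.2, fun j => ?_⟩
      fin_cases j
      · refine Submodule.mem_span_singleton.2 ⟨(z 0)⁻¹ * (1 - z 1 * μ), ?_⟩
        show _ = f 0 v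
        rw [mul_smul, sub_smul, one_smul, mul_smul, ← h1, hg, add_sub_cancel_right, inv_smul_smul₀ h0]
      · exact Submodule.mem_span_singleton.2 ⟨μ, h1.symm⟩
  have hgv : g v ≠ 0 := fun h0 => hv (g.injective (h0.trans (map_zero g).symm))
  have hlt := h.2 (Submodule.span K {v}) (Submodule.span K {g v}) (fun j => by
      rw [Submodule.map_span, Submodule.span_le]
      rintro _ ⟨_, rfl, rfl⟩
      exact hmem j)
    (fun hh => hv (by simpa using hh.1))
    (fun hh => by have := congrArg (fun S : Submodule K V => finrank K S) hh.1; rw [finrank_span_singleton hv, finrank_top, hV] at this; omega)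
  rw [finrank_span_singleton hv, finrank_span_singleton hgv, hV, hW] at hlt
  omega

end Groth.Agent.KronLib
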